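import Mathlib

/-! A finitely generated category receives a final and initial functor from a finite poset. -/

set_option autoImplicit false

namespace Groth.Agent.FinFinalLib

open CategoryTheory

universe v u

variable {I : Type u} [Category.{v} I]

/-- Data of a finite presentation of the arrows. -/
structure Gen (I : Type u) [Category.{v} I] where
  n : ℕ
  m : ℕ
  X : Fin n → I
  hX : Function.Bijective X
  src : Fin m → Fin n
  tgt : Fin m → Fin n
  arr : ∀ a, X (src a) ⟶ X (tgt a)
  gen : ∀ P : MorphismProperty I, P.IsMultiplicative → (∀ a, P (arr a)) → P = ⊤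

variable (G : Gen I)

/-- The poset. -/
inductive J : Type
  | pt (x : Fin G.n) (b : Bool)
  | mid (a : Fin G.m) (b : Bool)

/-- The poset is finite. -/
def jEquiv : (Fin G.n × Bool) ⊕ (Fin G.m × Bool) ≃ J G where
  toFun := Sum.elim (fun p => .pt p.1 p.2) (fun p => .mid p.1 p.2)
  invFun | .pt x b => .inl (x, b)
         | .mid a b => .inr (a, b)
  left_inv := by rintro (⟨x, b⟩ | ⟨a, b⟩) <;> rfl
  right_inv := by rintro (⟨x, b⟩ | ⟨a, b⟩) <;> rfl

instance : DecidableEq (J G) := (jEquiv G).symm.decidableEq

instance : Fintype (J G) := Fintype.ofEquiv _ (jEquiv G)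

/-- The nontrivial relations. -/
def R : J G → J G → Prop
  | .pt x false, .pt y true => x = y
  | .mid a false, .pt y true => G.src a = y
  | .mid a false, .mid b true => a = b
  | .pt x false, .mid b true => x = G.tgt b
  | _, _ => False

theorem not_R_R {p q r : J G} (h : R G p q) (h' : R G q r) : False := by
  rcases p with ⟨x, _ | _⟩ | ⟨x, _ | _⟩ <;> rcases q with ⟨y, _ | _⟩ | ⟨y, _ | _⟩ <;>
    rcases r with ⟨z, _ | _⟩ | ⟨z, _ | _⟩ <;>
    first
      | exact h.elim
      | exact h'.elim

instance : PartialOrder (J G) where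
  le p q := p = q ∨ R G p q
  le_refl p := Or.inl rfl
  le_trans p q r h h' := by
    rcases h with rfl | h
    · exact h'
    · rcases h' with rfl | h'
      · exact Or.inr h
      · exact (not_R_R G h h').elim
  le_antisymm p q h h' := by
    rcases h with rfl | h
    · rfl
    · rcases h' with rfl | h'
      · rfl
      · exact (not_R_R G h h').elim

noncomputable instance : FinCategory (J G) where
  fintypeObj := inferInstance
  fintypeHom p q := Fintype.ofFinite _

/-- Images of the points of the poset. -/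
def obj : J G → I
  | .pt x _ => G.X x
  | .mid a false => G.X (G.src a)
  | .mid a true => G.X (G.tgt a)

/-- Images of the nontrivial relations. -/
def edge : ∀ p q : J G, R G p q → (obj G p ⟶ obj G q)
  | .pt _ false, .pt _ true, h => eqToHom (congrArg G.X h)
  | .mid _ false, .pt _ true, h => eqToHom (congrArg G.X h)
  | .mid a false, .mid _ true, h => G.arr a ≫ eqToHom (congrArg (fun c => G.X (G.tgt c)) h)
  | .pt _ false, .mid _ true, h => eqToHom (congrArg G.X h)
  | .pt _ true, _, h => (by cases h)
  | .mid _ true, _, h => (by cases h)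
  | .pt _ false, .pt _ false, h => h.elim
  | .pt _ false, .mid _ false, h => h.elim
  | .mid _ false, .pt _ false, h => h.elim
  | .mid _ false, .mid _ false, h => h.elim

theorem r_of_ne {p q : J G} (h : p ≤ q) (hne : p ≠ q) : R G p q := h.resolve_left hne

/-- The functor to `I`. -/
def functor : J G ⥤ I where
  obj := obj G
  map {p q} f := if h : p = q then eqToHom (congrArg (obj G) h) else edge G p q (r_of_ne G (leOfHom f) h)
  map_id p := by simp
  map_comp {p q r} f g := by
    by_cases hpq : p = q
    · subst hpq; simp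
    by_cases hqr : q = r
    · subst hqr; simp
    exact (not_R_R G (r_of_ne G (leOfHom f) hpq) (r_of_ne G (leOfHom g) hqr)).elim

theorem map_of_R {p q : J G} (h : R G p q) :
    (functor G).map (homOfLE (Or.inr h : p ≤ q)) = edge G p q h :=
  dif_neg fun he => by subst he; exact not_R_R G h h

theorem final : (functor G).Final := by
  refine ⟨fun c => ?_⟩
  let N : ∀ x : Fin G.n, (c ⟶ G.X x) → StructuredArrow c (functor G) :=
    fun x φ => StructuredArrow.mk (Y := (J.pt x true : J G)) (T := functor G) φ
  have hom : ∀ {p q : J G} (h : R G p q) (φ : c ⟶ obj G p) (ψ : c ⟶ obj G q), φ ≫ edge G p q h = ψ →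
      Zigzag (StructuredArrow.mk (T := functor G) (φ : c ⟶ (functor G).obj p))
        (StructuredArrow.mk (T := functor G) (ψ : c ⟶ (functor G).obj q)) :=
    fun {p q} h φ ψ he => Zigzag.of_hom (StructuredArrow.homMk (homOfLE (Or.inr h)) (by
      show φ ≫ (functor G).map (homOfLE (Or.inr h)) = ψ
      rw [map_of_R]; exact he))
  have hnorm : ∀ j : StructuredArrow c (functor G), ∃ x φ, Zigzag j (N x φ) := by
    intro j
    obtain ⟨p, φ, rfl⟩ := j.mk_surjective
    change c ⟶ obj G p at φ
    rcases p with ⟨x, _ | _⟩ | ⟨a, _ | _⟩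
    · exact ⟨x, φ, hom (p := .pt x false) (q := .pt x true) rfl φ φ (Category.comp_id _)⟩
    · exact ⟨x, φ, Zigzag.refl _⟩
    · exact ⟨G.src a, φ, hom (p := .mid a false) (q := .pt (G.src a) true) rfl φ φ (Category.comp_id _)⟩
    · refine ⟨G.tgt a, φ, (zigzag_symmetric.symm _ _ ?_).trans
        (hom (p := .pt (G.tgt a) false) (q := .pt (G.tgt a) true) rfl φ φ (Category.comp_id _))⟩
      exact hom (p := .pt (G.tgt a) false) (q := .mid a true) rfl φ φ (Category.comp_id _)
  let P : MorphismProperty I := fun i j ψ => ∀ (x y : Fin G.n) (hx : G.X x = i) (hy : G.X y = j)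
    (φ : c ⟶ G.X x), Zigzag (N x φ) (N y (φ ≫ eqToHom hx ≫ ψ ≫ eqToHom hy.symm))
  have hmult : P.IsMultiplicative :=
    { id_mem := fun i x y hx hy φ => by
        obtain rfl := G.hX.1 (hx.trans hy.symm)
        subst hx
        simp only [eqToHom_refl, Category.comp_id]
        exact Zigzag.refl _
      comp_mem := fun {i j k} f g hf hg x z hx hz φ => by
        obtain ⟨y, hy⟩ := G.hX.2 j
        refine (hf x y hx hy φ).trans ?_
        have := hg y z hy hz (φ ≫ eqToHom hx ≫ f ≫ eqToHom hy.symm)
        simpa only [Category.assoc, eqToHom_trans_assoc, eqToHom_refl, Category.id_comp] using this }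
  have htop := G.gen P hmult fun a x y hx hy φ => by
    obtain rfl := G.hX.1 hx
    obtain rfl := G.hX.1 hy
    simp only [eqToHom_refl, Category.id_comp, Category.comp_id]
    refine (zigzag_symmetric.symm _ _ (hom (p := .mid a false) (q := .pt (G.src a) true) rfl φ φ
      (Category.comp_id _))).trans ((hom (p := .mid a false) (q := .mid a true) rfl φ (φ ≫ G.arr a)
      (by show φ ≫ G.arr a ≫ 𝟙 _ = φ ≫ G.arr a; rw [Category.comp_id])).trans ?_)
    refine (zigzag_symmetric.symm _ _ ?_).trans (hom (p := .pt (G.tgt a) false)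
      (q := .pt (G.tgt a) true) rfl (φ ≫ G.arr a) (φ ≫ G.arr a) (Category.comp_id _))
    exact hom (p := .pt (G.tgt a) false) (q := .mid a true) rfl (φ ≫ G.arr a) (φ ≫ G.arr a)
      (Category.comp_id _)
  obtain ⟨x₀, hx₀⟩ := G.hX.2 c
  haveI : Nonempty (StructuredArrow c (functor G)) := ⟨N x₀ (eqToHom hx₀.symm)⟩
  have hbase : ∀ j, Zigzag j (N x₀ (eqToHom hx₀.symm)) := fun j => by
    obtain ⟨x, φ, h⟩ := hnorm j
    refine h.trans (zigzag_symmetric.symm _ _ ?_)
    have hP : P φ := htop ▸ (trivial : (⊤ : MorphismProperty I) φ)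
    have := hP x₀ x hx₀ rfl (eqToHom hx₀.symm)
    simpa using this
  exact zigzag_isConnected fun j₁ j₂ => (hbase j₁).trans (zigzag_symmetric.symm _ _ (hbase j₂))

theorem initial : (functor G).Initial := by
  refine ⟨fun c => ?_⟩
  let N : ∀ x : Fin G.n, (G.X x ⟶ c) → CostructuredArrow (functor G) c :=
    fun x φ => CostructuredArrow.mk (Y := (J.pt x false : J G)) (S := functor G) φ
  have hom : ∀ {p q : J G} (h : R G p q) (φ : obj G p ⟶ c) (ψ : obj G q ⟶ c), edge G p q h ≫ ψ = φ →
      Zigzag (CostructuredArrow.mk (S := functor G) (φ : (functor G).obj p ⟶ c))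
        (CostructuredArrow.mk (S := functor G) (ψ : (functor G).obj q ⟶ c)) :=
    fun {p q} h φ ψ he => Zigzag.of_hom (CostructuredArrow.homMk (homOfLE (Or.inr h)) (by
      show (functor G).map (homOfLE (Or.inr h)) ≫ ψ = φ
      rw [map_of_R]; exact he))
  have hnorm : ∀ j : CostructuredArrow (functor G) c, ∃ x φ, Zigzag (N x φ) j := by
    intro j
    obtain ⟨p, φ, rfl⟩ := j.mk_surjective
    change obj G p ⟶ c at φ
    rcases p with ⟨x, _ | _⟩ | ⟨a, _ | _⟩
    · exact ⟨x, φ, Zigzag.refl _⟩
    · exact ⟨x, φ, hom (p := .pt x false) (q := .pt x true) rfl φ φ (Category.id_comp _)⟩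
    · refine ⟨G.src a, φ, (hom (p := .pt (G.src a) false) (q := .pt (G.src a) true) rfl φ φ
        (Category.id_comp _)).trans (zigzag_symmetric.symm _ _ ?_)⟩
      exact hom (p := .mid a false) (q := .pt (G.src a) true) rfl φ φ (Category.id_comp _)
    · exact ⟨G.tgt a, φ, hom (p := .pt (G.tgt a) false) (q := .mid a true) rfl φ φ (Category.id_comp _)⟩
  let P : MorphismProperty I := fun i j ψ => ∀ (x y : Fin G.n) (hx : G.X x = i) (hy : G.X y = j)
    (φ : G.X y ⟶ c), Zigzag (N y φ) (N x (eqToHom hx ≫ ψ ≫ eqToHom hy.symm ≫ φ))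
  have hmult : P.IsMultiplicative :=
    { id_mem := fun i x y hx hy φ => by
        obtain rfl := G.hX.1 (hx.trans hy.symm)
        subst hx
        simp only [eqToHom_refl, Category.id_comp]
        exact Zigzag.refl _
      comp_mem := fun {i j k} f g hf hg x z hx hz φ => by
        obtain ⟨y, hy⟩ := G.hX.2 j
        refine (hg y z hy hz φ).trans ?_
        have := hf x y hx hy (eqToHom hy ≫ g ≫ eqToHom hz.symm ≫ φ)
        simpa only [Category.assoc, eqToHom_trans_assoc, eqToHom_refl, Category.id_comp] using this }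
  have htop := G.gen P hmult fun a x y hx hy φ => by
    obtain rfl := G.hX.1 hx
    obtain rfl := G.hX.1 hy
    simp only [eqToHom_refl, Category.id_comp]
    refine (hom (p := .pt (G.tgt a) false) (q := .mid a true) rfl φ φ (Category.id_comp _)).trans
      ((zigzag_symmetric.symm _ _ (hom (p := .mid a false) (q := .mid a true) rfl (G.arr a ≫ φ) φ
        (by show (G.arr a ≫ 𝟙 _) ≫ φ = G.arr a ≫ φ; rw [Category.comp_id]))).trans ?_)
    refine (hom (p := .mid a false) (q := .pt (G.src a) true) rfl (G.arr a ≫ φ) (G.arr a ≫ φ)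
      (Category.id_comp _)).trans (zigzag_symmetric.symm _ _ ?_)
    exact hom (p := .pt (G.src a) false) (q := .pt (G.src a) true) rfl (G.arr a ≫ φ) (G.arr a ≫ φ)
      (Category.id_comp _)
  obtain ⟨x₀, hx₀⟩ := G.hX.2 c
  haveI : Nonempty (CostructuredArrow (functor G) c) := ⟨N x₀ (eqToHom hx₀)⟩
  have hbase : ∀ j, Zigzag j (N x₀ (eqToHom hx₀)) := fun j => by
    obtain ⟨x, φ, h⟩ := hnorm j
    refine (zigzag_symmetric.symm _ _ h).trans (zigzag_symmetric.symm _ _ ?_)
    have hP : P φ := htop ▸ (trivial : (⊤ : MorphismProperty I) φ)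
    have := hP x x₀ rfl hx₀ (eqToHom hx₀)
    simpa using this
  exact zigzag_isConnected fun j₁ j₂ => (hbase j₁).trans (zigzag_symmetric.symm _ _ (hbase j₂))

end Groth.Agent.FinFinalLib
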